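import Groth.Agent.Pi1.K260.D1Plan
import Groth.Agent.Sga1.UlaSL
import Groth.Agent.Sga3C.GenPts
import Mathlib.AlgebraicGeometry.Morphisms.FlatRank

/-!
# Node LOC3: locally constant functions on finite étale covers are locally determined over `W`
-/

set_option autoImplicit false
universe u

open CategoryTheory CategoryTheory.Limits AlgebraicGeometry IsLocalRing

namespace K420.D1Loc3

open Groth.Agent.Etrest.StrictLoc Groth.Agent.Sga1.UlaSL K868.Bc K260.D1

/-- The set where two locally constant functions differ is clopen. -/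
theorem isClopen_ne {F E : Type*} [TopologicalSpace F] {f f' : F → E} (hf : IsLocallyConstant f)
    (hf' : IsLocallyConstant f') : IsClopen {z | f z ≠ f' z} := by
  have h : IsLocallyConstant fun z => (f z, f' z) := hf.prodMk hf'
  refine ⟨⟨?_⟩, h {e : E × E | e.1 ≠ e.2}⟩
  have h1 : {z | f z ≠ f' z}ᶜ = (fun z => (f z, f' z)) ⁻¹' {e : E × E | e.1 = e.2} := by
    ext z
    simp
  rw [h1]
  exact h _

/-- A quasi-compact morphism restricted to a clopen subset. -/
theorem exists_specializes_of_clopen {F B : Scheme.{u}} (q : F ⟶ B) [QuasiCompact q] {C : Set F}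
    (hC : IsClopen C) {y : B} (hy : y ∈ closure (q '' C)) : ∃ c ∈ C, q c ⤳ y := by
  let W : F.Opens := ⟨C, hC.2⟩
  have hcl : IsClosedImmersion W.ι := by
    have : IsClosed (Set.range W.ι) := by rw [Scheme.Opens.range_ι]; exact hC.1
    exact IsClosedImmersion.of_isPreimmersion W.ι this
  have h1 : Set.range (W.ι ≫ q) = q '' C := by
    rw [Scheme.Hom.comp_base, TopCat.coe_comp, Set.range_comp]
    exact congrArg (q '' ·) (Scheme.Opens.range_ι W)
  obtain ⟨x, hx⟩ := Groth.Agent.Sga3C.GenPts.exists_specializes_of_mem_closure_range (W.ι ≫ q) y (by rwa [h1])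
  exact ⟨W.ι x, x.2, hx⟩

theorem loc3 : K260.D1.Loc3.{u} := by
  intro R _ _ X Z W p j w _ _ _ G _ _ hL B b _ F φ _ _ E f f' hf hf' hw y hy
  have hC := isClopen_ne hf hf'
  by_cases hcl : y ∈ closure ((φ ≫ pullback.snd j b) '' {z | f z ≠ f' z})
  · exfalso
    obtain ⟨c, hc, hcy⟩ := exists_specializes_of_clopen (φ ≫ pullback.snd j b) hC hcl
    obtain ⟨D, _, _, σ, hσ, rfl⟩ := exists_isStrictLoc B y
    have hσ' := hσ.comp b
    have hC' : IsClopen (φ '' {z | f z ≠ f' z}) := ⟨φ.isClosedMap _ hC.1, φ.isOpenMap _ hC.2⟩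
    let g : pullback j (σ ≫ b) ⟶ pullback j b :=
      pullback.lift (pullback.fst j (σ ≫ b)) (pullback.snd j (σ ≫ b) ≫ σ) (by
        rw [Category.assoc, pullback.condition])
    have hg : g ≫ pullback.fst j b = pullback.fst j (σ ≫ b) := pullback.lift_fst _ _ _
    have h1 : g ⁻¹' (φ '' {z | f z ≠ f' z}) = ∅ := by
      refine hL.faith D (σ ≫ b) hσ' hy (pullback.fst j (σ ≫ b)) (pullback.snd j (σ ≫ b))
        (IsPullback.of_hasPullback _ _) _ (hC'.preimage g.continuous) ?_
      ext ξ
      simp only [Set.mem_inter_iff, Set.mem_preimage, Set.mem_empty_iff_false, iff_false]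
      rintro ⟨⟨z, hz, hzξ⟩, hξ⟩
      refine hz (hw z ?_)
      have h3 : φ z = g ξ := hzξ
      rw [Scheme.Hom.comp_apply, h3, ← Scheme.Hom.comp_apply, hg]
      exact hξ
    -- a point over `c`
    have := weaklyEtale_of_isStrictLoc hσ
    obtain ⟨d, -, hd⟩ := Flat.generalizingMap σ hcy
    obtain ⟨z, hz, -⟩ := Scheme.Pullback.exists_preimage_pullback (f := pullback.snd j b) (g := σ)
      (φ c) d hd.symm
    let e : pullback (pullback.snd j b) σ ⟶ pullback j (σ ≫ b) :=
      pullback.lift (pullback.fst (pullback.snd j b) σ ≫ pullback.fst j b) (pullback.snd (pullback.snd j b) σ) (by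
        rw [Category.assoc, pullback.condition, ← Category.assoc, pullback.condition, Category.assoc])
    have he : e ≫ g = pullback.fst (pullback.snd j b) σ := by
      apply pullback.hom_ext
      · rw [Category.assoc, hg]
        exact pullback.lift_fst _ _ _
      · rw [Category.assoc, pullback.lift_snd, ← Category.assoc, pullback.lift_snd, pullback.condition]
    have h2 : e z ∈ g ⁻¹' (φ '' {z | f z ≠ f' z}) := by
      rw [Set.mem_preimage, ← Scheme.Hom.comp_apply, he, hz]
      exact ⟨c, hc, rfl⟩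
    rw [h1] at h2
    exact h2
  · refine ⟨⟨_, isClosed_closure.isOpen_compl⟩, hcl, fun z hz => ?_⟩
    by_contra hne
    exact hz (subset_closure ⟨z, hne, rfl⟩)

end K420.D1Loc3
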